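import Mathlib
import Cfsg.Agent.Lib.Helper48.FrakL.DefsN
import Cfsg.Agent.Lib.Helper74.FrakL.Dih

/-!
# S2861, case N1: `|Y A / A| = 2` (dihedral case)
-/

set_option autoImplicit false

namespace Cfsg.Agent.Lib.Helper80.FrakL

open Subgroup Cfsg.Agent.Lib.Helper48.FrakL

universe u

/-- **Case N1 of S2861**: if the image of `Y` in `X / A` has order two, `ConclN` holds. -/
theorem caseN_two {X : Type u} [Group X] [Finite X] {Y A : Subgroup X} [hAn : A.Normal]
    (d : Data 2 Y A) (h2 : Nat.card ↥(Y.map (QuotientGroup.mk' A)) = 2) : ConclN 2 Y A := by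
  obtain ⟨y0, hy0Y, hy0A⟩ := SetLike.not_le_iff_exists.mp d.not_le
  set π := QuotientGroup.mk' A with hπ
  have hker : ∀ x : X, π x = 1 ↔ x ∈ A := fun x => QuotientGroup.eq_one_iff x
  have hπeq : ∀ x x' : X, π x = π x' ↔ x⁻¹ * x' ∈ A := fun x x' => QuotientGroup.eq
  have hq0ne : π y0 ≠ 1 := fun h => hy0A ((hker y0).mp h)
  have hy0sq : y0 * y0 = 1 := by
    have := d.exp y0 hy0Y
    rwa [pow_two] at this
  have hq0sq : π y0 * π y0 = 1 := by rw [← map_mul, hy0sq, map_one]
  -- the image of `Y` is `{1, q0}`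
  have hY2 : ∀ y ∈ Y, π y = 1 ∨ π y = π y0 := by
    intro y hy
    obtain ⟨z, hz1, hz2⟩ := (Nat.card_eq_two_iff' (1 : ↥(Y.map π))).mp h2
    have e0 : (⟨π y0, Subgroup.mem_map_of_mem π hy0Y⟩ : ↥(Y.map π)) = z :=
      hz2 _ (fun h => hq0ne (congrArg Subtype.val h))
    by_cases hy1 : π y = 1
    · exact Or.inl hy1
    · right
      have e1 : (⟨π y, Subgroup.mem_map_of_mem π hy⟩ : ↥(Y.map π)) = z :=
        hz2 _ (fun h => hy1 (congrArg Subtype.val h))
      exact congrArg Subtype.val (e1.trans e0.symm)
  have hYA : ∀ y ∈ Y, y ∉ A → π y = π y0 := by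
    intro y hy hyA
    rcases hY2 y hy with h | h
    · exact absurd ((hker y).mp h) hyA
    · exact h
  obtain ⟨g1, hg1⟩ := d.exists_gen
  have hq1sq : π (g1 * y0 * g1⁻¹) * π (g1 * y0 * g1⁻¹) = 1 := by
    rw [← map_mul]
    have : g1 * y0 * g1⁻¹ * (g1 * y0 * g1⁻¹) = g1 * (y0 * y0) * g1⁻¹ := by group
    rw [this, hy0sq]
    simp
  have hgen : Subgroup.closure ({π y0, π (g1 * y0 * g1⁻¹)} : Set (X ⧸ A)) = ⊤ := by
    rw [eq_top_iff]
    have h1 : (⊤ : Subgroup X).map π = ⊤ :=
      Subgroup.map_top_of_surjective π (QuotientGroup.mk'_surjective A)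
    rw [← h1, ← hg1, Subgroup.map_sup]
    apply sup_le
    · rintro _ ⟨y, hy, rfl⟩
      rcases hY2 y hy with h | h
      · rw [h]
        exact one_mem _
      · rw [h]
        exact Subgroup.subset_closure (by simp)
    · rintro _ ⟨x, hx, rfl⟩
      obtain ⟨y, hy, rfl⟩ := mem_Yc.mp hx
      rcases hY2 y hy with h | h
      · have : π (g1 * y * g1⁻¹) = 1 := by
          rw [map_mul, map_mul, h, mul_one, ← map_mul, mul_inv_cancel, map_one]
        rw [this]
        exact one_mem _
      · have : π (g1 * y * g1⁻¹) = π (g1 * y0 * g1⁻¹) := by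
          rw [map_mul, map_mul, h, ← map_mul, ← map_mul]
        rw [this]
        exact Subgroup.subset_closure (by simp)
  -- no central involutions in `X / A`
  have hO : ∀ z : X ⧸ A, z * z = 1 → (∀ q : X ⧸ A, q * z = z * q) → z = 1 := by
    intro z hz hzc
    obtain ⟨x, rfl⟩ := QuotientGroup.mk'_surjective A z
    let N : Subgroup X :=
      { carrier := {n | π n = 1 ∨ π n = π x}
        one_mem' := Or.inl (map_one π)
        mul_mem' := by
          intro a b ha hb
          simp only [Set.mem_setOf_eq] at ha hb ⊢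
          rcases ha with ha | ha <;> rcases hb with hb | hb
          · left
            rw [map_mul, ha, hb, mul_one]
          · right
            rw [map_mul, ha, hb, one_mul]
          · right
            rw [map_mul, ha, hb, mul_one]
          · left
            rw [map_mul, ha, hb]
            exact hz
        inv_mem' := by
          intro a ha
          simp only [Set.mem_setOf_eq] at ha ⊢
          rcases ha with ha | ha
          · left
            rw [map_inv, ha, inv_one]
          · right
            rw [map_inv, ha]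
            exact inv_eq_of_mul_eq_one_left hz }
    have hN : N.Normal := ⟨by
      intro n hn g
      change π (g * n * g⁻¹) = 1 ∨ π (g * n * g⁻¹) = π x
      rcases hn with hn | hn
      · left
        rw [map_mul, map_mul, hn, mul_one, ← map_mul, mul_inv_cancel, map_one]
      · right
        rw [map_mul, map_mul, hn]
        have := hzc (π g)
        rw [this, mul_assoc, ← map_mul, mul_inv_cancel, map_one, mul_one]⟩
    have hp : IsPGroup 2 ↥N := by
      intro n
      have hn2 : (n : X) * (n : X) ∈ A := by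
        rw [← hker, map_mul]
        rcases n.2 with hn | hn
        · rw [hn, mul_one]
        · rw [hn]
          exact hz
      obtain ⟨j, hj⟩ := d.pgroup ⟨(n : X) * (n : X), hn2⟩
      refine ⟨j + 1, ?_⟩
      apply Subtype.ext
      have h3 : ((n : X) * (n : X)) ^ 2 ^ j = 1 := by
        have := congrArg Subtype.val hj
        simpa using this
      have h4 : ((n ^ 2 ^ (j + 1) : ↥N) : X) = (n : X) ^ 2 ^ (j + 1) := rfl
      rw [h4, pow_succ', pow_mul, pow_two]
      exact h3
    have hxN : x ∈ N := Or.inr rfl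
    exact (hker x).mpr (d.max N hN hp hxN)
  obtain ⟨-, hii⟩ := Cfsg.Agent.Lib.Helper74.FrakL.dih_facts (π y0) (π (g1 * y0 * g1⁻¹))
    hq0sq hq1sq hgen hO
  -- elements of the normalizer of `Y` commute with `q0` modulo `A`
  have hnorm : ∀ n ∈ normalizer (Y : Set X), π n * π y0 = π y0 * π n := by
    intro n hn
    have h1 : n * y0 * n⁻¹ ∈ Y := (mem_normalizer_iff.mp hn y0).mp hy0Y
    have h2' : n * y0 * n⁻¹ ∉ A := by
      intro h
      apply hy0A
      have := hAn.conj_mem _ h n⁻¹
      have e : n⁻¹ * (n * y0 * n⁻¹) * n⁻¹⁻¹ = y0 := by group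
      rwa [e] at this
    have h3 := hYA _ h1 h2'
    rw [map_mul, map_mul, map_inv] at h3
    calc π n * π y0 = π n * π y0 * (π n)⁻¹ * π n := by group
      _ = π y0 * π n := by rw [h3]
  -- main argument
  intro W hAW hWN _ hexp _ hWA
  -- every element of `W` maps to `1` or `q0`
  have hW2 : ∀ w ∈ W, π w = 1 ∨ π w = π y0 := by
    intro w hw
    have hsq : π w * π w = 1 := by
      rw [← map_mul, hker, ← pow_two]
      exact hexp w hw
    exact hii _ hsq (hnorm w (hWN hw))
  apply le_antisymm
  · intro w hw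
    rcases hW2 w hw with h | h
    · exact le_sup_right (α := Subgroup X) ((hker w).mp h)
    · have h' : y0⁻¹ * w ∈ A := (hπeq _ _).mp h.symm
      have e : w = y0 * (y0⁻¹ * w) := by group
      rw [e]
      exact mul_mem (le_sup_left (α := Subgroup X) hy0Y) (le_sup_right (α := Subgroup X) h')
  · obtain ⟨w, hwW, hwA⟩ := SetLike.not_le_iff_exists.mp hWA
    have hw0 : π w = π y0 := by
      rcases hW2 w hwW with h | h
      · exact absurd ((hker w).mp h) hwA
      · exact h
    have hy0W : y0 ∈ W := by
      have h' : w⁻¹ * y0 ∈ A := (hπeq _ _).mp hw0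
      have e : y0 = w * (w⁻¹ * y0) := by group
      rw [e]
      exact mul_mem hwW (hAW h')
    apply sup_le _ hAW
    intro y hy
    rcases hY2 y hy with h | h
    · exact hAW ((hker y).mp h)
    · have h' : y0⁻¹ * y ∈ A := (hπeq _ _).mp h.symm
      have e : y = y0 * (y0⁻¹ * y) := by group
      rw [e]
      exact mul_mem hy0W (hAW h')

end Cfsg.Agent.Lib.Helper80.FrakL
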